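import Mathlib

/-! Coflasque criterion: vanishing of `H¹` on subgroups versus splitting of extensions of permutation modules. -/

set_option maxHeartbeats 1000000

open CategoryTheory

namespace GalLatExtLib

theorem main (k : Type) [CommRing k] (Γ : Type) [Group Γ] [Finite Γ] (Λ : Rep.{0} k Γ) :
    (∀ Γ' : Subgroup Γ, Limits.IsZero (groupCohomology (Rep.res Γ'.subtype Λ) 1)) ↔
      ∀ (X : Type) [MulAction Γ X] [Finite X] (E : ShortComplex (Rep.{0} k Γ)),
        E.ShortExact → Nonempty (E.X₁ ≅ Λ) → Nonempty (E.X₃ ≅ Rep.ofMulAction k Γ X) →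
          Nonempty E.Splitting := by
  classical
  let F := forget₂ (Rep.{0} k Γ) (ModuleCat.{0} k)
  constructor
  · intro hH X _ _ E hE hi hj
    obtain ⟨i⟩ := hi
    obtain ⟨j⟩ := hj
    have hEF := hE.map_of_exact F
    have hfinj : Function.Injective E.f.hom := (ModuleCat.mono_iff_injective _).1 hEF.mono_f
    have hgsurj : Function.Surjective E.g.hom := (ModuleCat.epi_iff_surjective _).1 hEF.epi_g
    have hex := (ShortComplex.moduleCat_exact_iff _).1 hEF.exact
    let ι : Λ ⟶ E.X₂ := i.inv ≫ E.f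
    have hιinj : Function.Injective ι.hom := by
      intro a b h
      have h1 : i.inv.hom a = i.inv.hom b := hfinj h
      have h2 := congrArg i.hom.hom h1
      rwa [Rep.hom_inv_apply _ _ i, Rep.hom_inv_apply _ _ i] at h2
    have hιex : ∀ e, E.g.hom e = 0 → ∃ a, ι.hom a = e := fun e he => by
      obtain ⟨a, ha⟩ := hex e he
      exact ⟨i.hom.hom a, by
        show E.f.hom (i.inv.hom (i.hom.hom a)) = e
        rw [Rep.inv_hom_apply _ _ i]; exact ha⟩
    have hgι : ∀ a, E.g.hom (ι.hom a) = 0 := fun a => by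
      have := congrArg (fun t : E.X₁ ⟶ E.X₃ => t.hom (i.inv.hom a)) E.zero
      exact this
    let P := Rep.ofMulAction k Γ X
    let δ : X → P.V := fun x => MonoidAlgebra.single x 1
    have hδ : ∀ (g : Γ) x, P.ρ g (δ x) = δ (g • x) := fun g x => Representation.ofMulAction_single g x 1
    have key : ∀ x : X, ∃ e : E.X₂.V, E.g.hom e = j.inv.hom (δ x) ∧ ∀ h : Γ, h • x = x → E.X₂.ρ h e = e := by
      intro x
      obtain ⟨e0, he0⟩ := hgsurj (j.inv.hom (δ x))
      let S := MulAction.stabilizer Γ x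
      have hS : ∀ h : S, E.g.hom (E.X₂.ρ (h : Γ) e0 - e0) = 0 := fun h => by
        have hh : (h : Γ) • x = x := h.2
        rw [map_sub, Rep.hom_comm_apply, he0, ← Rep.hom_comm_apply, hδ, hh, sub_self]
      choose c hc using fun h => hιex _ (hS h)
      have hcoc : c ∈ groupCohomology.cocycles₁ (Rep.res S.subtype Λ) := by
        rw [groupCohomology.mem_cocycles₁_iff]
        intro g h
        apply hιinj
        show ι.hom (c (g * h)) = ι.hom (Λ.ρ (g : Γ) (c h) + c g)
        rw [map_add, Rep.hom_comm_apply, hc, hc, hc, map_sub, Subgroup.coe_mul, map_mul, Module.End.mul_apply]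
        abel
      haveI : Subsingleton (groupCohomology (Rep.res S.subtype Λ) 1) := ModuleCat.subsingleton_of_isZero (hH S)
      obtain ⟨a, ha⟩ := (groupCohomology.H1π_eq_zero_iff (A := Rep.res S.subtype Λ) ⟨c, hcoc⟩).1 (Subsingleton.elim _ _)
      refine ⟨e0 - ι.hom a, by rw [map_sub, hgι, sub_zero, he0], fun h hh => ?_⟩
      have h1 : ι.hom (Λ.ρ h a - a) = E.X₂.ρ h e0 - e0 := by
        rw [← hc ⟨h, hh⟩]
        congr 1
        exact congrFun ha ⟨h, hh⟩
      rw [map_sub, Rep.hom_comm_apply] at h1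
      rw [map_sub, sub_eq_sub_iff_sub_eq_sub]
      exact h1.symm
    choose e he hefix using key
    let rep : X → X := fun x => (Quotient.mk (MulAction.orbitRel Γ X) x).out
    have hrep : ∀ x, ∃ g : Γ, g • rep x = x := fun x => by
      obtain ⟨g, hg⟩ := (MulAction.orbitRel_apply.1 (Quotient.mk_out (s := MulAction.orbitRel Γ X) x))
      exact ⟨g⁻¹, by rw [inv_smul_eq_iff]; exact hg.symm⟩
    choose t ht using hrep
    have hrep2 : ∀ (g : Γ) x, rep (g • x) = rep x := fun g x =>
      congrArg Quotient.out (Quotient.sound (MulAction.mem_orbit x g) : Quotient.mk (MulAction.orbitRel Γ X) (g • x) = Quotient.mk _ x)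
    let v : X → E.X₂.V := fun x => E.X₂.ρ (t x) (e (rep x))
    have hv : ∀ (g : Γ) x, E.X₂.ρ g (v x) = v (g • x) := by
      intro g x
      have h1 : ((t (g • x))⁻¹ * (g * t x)) • rep x = rep x := by
        rw [mul_smul, mul_smul, ht, inv_smul_eq_iff]
        conv_rhs => rw [← hrep2 g x, ht]
      have h2 := congrArg (E.X₂.ρ (t (g • x))) (hefix _ _ h1)
      rw [← Module.End.mul_apply, ← map_mul, mul_inv_cancel_left, map_mul, Module.End.mul_apply] at h2
      simp only [v, hrep2]
      exact h2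
    let σl : P.V →ₗ[k] E.X₂.V :=
      Finsupp.linearCombination k v ∘ₗ (MonoidAlgebra.coeffLinearEquiv (M := X) k).toLinearMap
    have hσ : ∀ x, σl (δ x) = v x := fun x => by
      exact (congrArg (Finsupp.linearCombination k v) (MonoidAlgebra.coeff_single x (1 : k))).trans (by simp)
    let σ : P ⟶ E.X₂ := Rep.ofHom (⟨σl, fun g => MonoidAlgebra.lhom_ext' fun x => LinearMap.ext_ring (by
      show σl (P.ρ g (δ x)) = E.X₂.ρ g (σl (δ x))
      rw [hδ, hσ, hσ, hv])⟩ : Representation.IntertwiningMap P.ρ E.X₂.ρ)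
    have hgσ : σ ≫ E.g = j.inv := by
      refine Rep.hom_ext (Representation.IntertwiningMap.toLinearMap_injective _ _ (MonoidAlgebra.lhom_ext' fun x => LinearMap.ext_ring ?_))
      show E.g.hom (σl (δ x)) = j.inv.hom (δ x)
      rw [hσ]
      simp only [v]
      rw [Rep.hom_comm_apply, he, ← Rep.hom_comm_apply, hδ, ht]
    exact ⟨ShortComplex.Splitting.ofExactOfSection E hE.exact (j.hom ≫ σ)
      (by rw [Category.assoc, hgσ, j.hom_inv_id]) hE.mono_f⟩
  · intro hE Γ'
    suffices H : ∀ c : groupCohomology.cocycles₁ (Rep.res Γ'.subtype Λ),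
        ⇑c ∈ groupCohomology.coboundaries₁ (Rep.res Γ'.subtype Λ) by
      rw [ModuleCat.isZero_of_iff_subsingleton (M := groupCohomology (Rep.res Γ'.subtype Λ) 1)]
      refine subsingleton_of_forall_eq 0 fun y => ?_
      induction y using groupCohomology.H1_induction_on with
      | h x => exact (groupCohomology.H1π_eq_zero_iff x).2 (H x)
    intro c
    let X := Γ ⧸ Γ'
    let x0 : X := ((1 : Γ) : X)
    let s : X → Γ := fun x => if x = x0 then 1 else x.out
    have hs : ∀ x, ((s x : Γ) : X) = x := fun x => by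
      simp only [s]; split_ifs with h
      · exact h.symm
      · exact Quotient.out_eq x
    have hmem : ∀ g x, (s (g • x))⁻¹ * (g * s x) ∈ Γ' := fun g x => by
      rw [← QuotientGroup.eq, hs]
      conv_lhs => rw [← hs x]
      rfl
    let a : Γ → X → Γ' := fun g x => ⟨_, hmem g x⟩
    let u : Γ → X → Λ.V := fun g x => Λ.ρ (s (g • x)) (c (a g x))
    have hcc := (groupCohomology.mem_cocycles₁_iff _).1 c.2
    have hu : ∀ g h x, u (g * h) x = Λ.ρ g (u h x) + u g (h • x) := by
      intro g h x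
      have ha : a (g * h) x = a g (h • x) * a h x := by
        apply Subtype.ext
        simp only [a, Subgroup.coe_mul, mul_smul]
        group
      simp only [u]
      rw [ha, show (c (a g (h • x) * a h x) : Λ.V) = Λ.ρ (a g (h • x) : Γ) (c (a h x)) + c (a g (h • x)) from hcc _ _,
        map_add, mul_smul]
      congr 1
      show Λ.ρ _ (Λ.ρ ((a g (h • x) : Γ)) _) = _
      rw [← Module.End.mul_apply, ← map_mul, ← Module.End.mul_apply (f := Λ.ρ g), ← map_mul]
      simp only [a]
      rw [mul_inv_cancel_left]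
    have hu1 : ∀ x, u 1 x = 0 := fun x => by
      have := hu 1 1 x
      rw [one_mul, map_one, Module.End.one_apply, one_smul] at this
      exact left_eq_add.mp this
    let P := Rep.ofMulAction k Γ X
    let φ : Γ → (P.V →ₗ[k] Λ.V) := fun g =>
      Finsupp.linearCombination k (u g) ∘ₗ (MonoidAlgebra.coeffLinearEquiv (M := X) k).toLinearMap
    have hφ : ∀ g x, φ g (MonoidAlgebra.single x 1) = u g x := fun g x => by
      exact (congrArg (Finsupp.linearCombination k (u g)) (MonoidAlgebra.coeff_single x (1 : k))).trans (by simp)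
    let τl : Γ → (Λ.V × P.V →ₗ[k] Λ.V × P.V) := fun g =>
      LinearMap.prod (LinearMap.coprod (Λ.ρ g) (φ g)) (P.ρ g ∘ₗ LinearMap.snd k Λ.V P.V)
    have hφmul : ∀ g h, φ (g * h) = Λ.ρ g ∘ₗ φ h + φ g ∘ₗ P.ρ h := fun g h =>
      MonoidAlgebra.lhom_ext' fun x => LinearMap.ext_ring (by
        show φ (g * h) (MonoidAlgebra.single x 1) = Λ.ρ g (φ h (MonoidAlgebra.single x 1)) + φ g (P.ρ h (MonoidAlgebra.single x 1))
        rw [hφ, hφ, hu, show P.ρ h (MonoidAlgebra.single x 1) = MonoidAlgebra.single (h • x) 1 from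
          Representation.ofMulAction_single h x 1, hφ])
    have hφone : φ 1 = 0 := MonoidAlgebra.lhom_ext' fun x => LinearMap.ext_ring (by
      show φ 1 (MonoidAlgebra.single x 1) = 0
      rw [hφ, hu1])
    let τ : Representation k Γ (Λ.V × P.V) :=
      { toFun := τl
        map_one' := LinearMap.ext fun p => by
          show (Λ.ρ 1 p.1 + φ 1 p.2, P.ρ 1 p.2) = p
          rw [hφone, map_one, map_one, Module.End.one_apply, Module.End.one_apply, LinearMap.zero_apply, add_zero]
        map_mul' := fun g h => LinearMap.ext fun p => by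
          show (Λ.ρ (g * h) p.1 + φ (g * h) p.2, P.ρ (g * h) p.2) =
            (Λ.ρ g (Λ.ρ h p.1 + φ h p.2) + φ g (P.ρ h p.2), P.ρ g (P.ρ h p.2))
          rw [hφmul, map_mul, map_mul, map_add]
          simp only [Module.End.mul_apply, LinearMap.add_apply, LinearMap.comp_apply]
          rw [add_assoc] }
    let f : Λ ⟶ Rep.of τ := Rep.ofHom (⟨LinearMap.inl k Λ.V P.V, fun g => LinearMap.ext fun l => by
      show (Λ.ρ g l, (0 : P.V)) = (Λ.ρ g l + φ g 0, P.ρ g 0)
      rw [map_zero, map_zero, add_zero]⟩ : Representation.IntertwiningMap Λ.ρ τ)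
    let p : Rep.of τ ⟶ P := Rep.ofHom (⟨LinearMap.snd k Λ.V P.V, fun g => LinearMap.ext fun l => rfl⟩ :
      Representation.IntertwiningMap τ P.ρ)
    let S : ShortComplex (Rep k Γ) := ShortComplex.mk f p (Rep.hom_ext (by ext; rfl))
    have hS : S.ShortExact := ShortComplex.ShortExact.mk'
      ((ShortComplex.exact_map_iff_of_faithful S F).1 ((ShortComplex.moduleCat_exact_iff _).2
        fun (y : Λ.V × P.V) hy => ⟨y.1, Prod.ext rfl (Eq.symm hy)⟩))
      (F.mono_of_mono_map ((ModuleCat.mono_iff_injective _).2 fun l l' h => congrArg Prod.fst h))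
      (F.epi_of_epi_map ((ModuleCat.epi_iff_surjective _).2 fun (y : P.V) => ⟨((0 : Λ.V), y), rfl⟩))
    haveI : Finite X := by infer_instance
    obtain ⟨sp⟩ := hE X S hS ⟨Iso.refl _⟩ ⟨Iso.refl _⟩
    let δ : P.V := MonoidAlgebra.single x0 1
    let w : Λ.V × P.V := sp.s.hom δ
    have hw2 : w.2 = δ := congrArg (fun t : P ⟶ P => t.hom δ) sp.s_g
    refine ⟨-w.1, funext fun h => ?_⟩
    have hfix : (h : Γ) • x0 = x0 := by
      show (((h : Γ) * 1 : Γ) : X) = ((1 : Γ) : X)
      rw [QuotientGroup.eq]; simp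
    have h1 : sp.s.hom (P.ρ (h : Γ) δ) = τ (h : Γ) w := Rep.hom_comm_apply sp.s _ _
    rw [show P.ρ (h : Γ) δ = MonoidAlgebra.single ((h : Γ) • x0) 1 from Representation.ofMulAction_single _ x0 1, hfix] at h1
    have h2 : w.1 = Λ.ρ (h : Γ) w.1 + u (h : Γ) x0 := by
      rw [← hφ, show (MonoidAlgebra.single x0 1 : P.V) = w.2 from hw2.symm]
      exact congrArg Prod.fst h1
    have h3 : u (h : Γ) x0 = c h := by
      simp only [u, hfix]
      rw [show s x0 = 1 from if_pos rfl, map_one, Module.End.one_apply]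
      congr 1
      apply Subtype.ext
      simp [a, hfix, show s x0 = 1 from if_pos rfl]
    rw [h3] at h2
    show Λ.ρ (h : Γ) (-w.1) - -w.1 = c h
    rw [map_neg, sub_neg_eq_add, neg_add_eq_sub, sub_eq_iff_eq_add, add_comm]
    exact h2

end GalLatExtLib
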